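import Cfsg.Agent.H801.PU.Cnt
import Cfsg.Agent.H732.PU.Chain

/-!
# S5258, (E4c): `Y ≤ E ≰ Q₂`, `Z` not invariant implies `Q₂ ≤ E` invariant (helper801)
-/

set_option autoImplicit false

namespace Cfsg.Agent.H801.PU

open Cfsg Cfsg.FusionSystem Cfsg.Agent.H756.PU

universe u

/-- the image of `M ∩ E` under `γ` -/
def img {Ω : Type*} [Group Ω] {E : Subgroup Ω} (γ : MulAut E) (M : Subgroup Ω) : Subgroup Ω :=
  ((M.subgroupOf E).map γ.toMonoidHom).map E.subtype

theorem mem_img {Ω : Type*} [Group Ω] {E : Subgroup Ω} {γ : MulAut E} {M : Subgroup Ω} {y : Ω} :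
    y ∈ img γ M ↔ ∃ e : E, (e : Ω) ∈ M ∧ ((γ e : E) : Ω) = y := by
  unfold img
  simp only [Subgroup.mem_map, Subgroup.mem_subgroupOf]
  constructor
  · rintro ⟨_, ⟨e, he, rfl⟩, rfl⟩
    exact ⟨e, he, rfl⟩
  · rintro ⟨e, he, rfl⟩
    exact ⟨_, ⟨e, he, rfl⟩, rfl⟩

theorem card_img {Ω : Type*} [Group Ω] {E : Subgroup Ω} (γ : MulAut E) {M : Subgroup Ω} (hM : M ≤ E) :
    Nat.card (img γ M) = Nat.card M := by
  unfold img
  rw [Subgroup.card_map_of_injective E.subtype_injective, Subgroup.card_map_of_injective γ.injective]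
  exact Nat.card_congr (Subgroup.subgroupOfEquivOfLe hM).toEquiv

theorem img_le {Ω : Type*} [Group Ω] {E : Subgroup Ω} (γ : MulAut E) (M : Subgroup Ω) : img γ M ≤ E := by
  intro y hy
  obtain ⟨e, -, rfl⟩ := mem_img.1 hy
  exact (γ e).2

variable {K : Type u} [Field K] [StarRing K] {p n : ℕ}

/-- A subgroup with few `r`-coordinates. -/
theorem card_le_inf_Q2 (h : HypK K p n) {b : K} (hb : b ≠ 0) (X : Subgroup (UG K))
    (hX : ∀ x ∈ X, star x.r * b = x.r * star b) : Nat.card X ≤ p ^ n * Nat.card ↥(X ⊓ Q2 K) := by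
  have := h.fin
  have := finite_UG (K := K)
  have h4 := card_le_of_fiber X (X ⊓ Q2 K) (fun x => x.r) {x : K | star x + (-(star b / b)) * x = 0}
    (fun x hx => by
      have h3 := hX x hx
      change star x.r + (-(star b / b)) * x.r = 0
      have h5 : b * (star x.r + (-(star b / b)) * x.r) = 0 := by
        field_simp
        linear_combination h3
      exact (mul_eq_zero.1 h5).resolve_left hb)
    (fun x hx y hy hxy => by
      have hxy' : x.r = y.r := hxy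
      refine ⟨X.mul_mem (X.inv_mem hx) hy, ?_⟩
      change (x⁻¹ * y).r = 0
      rw [UG.mul_r, UG.inv_r, hxy', neg_add_cancel])
  exact h4.trans (Nat.mul_le_mul_right _ (card_lin h _))

/-- **(E4c)** -/
theorem stE4c : StE4c.{u} := by
  intro K _ _ p n h E Γ hE hY hEQ hZ
  have := h.fin
  have := finite_UG (K := K)
  have hq := two_le h
  have hVE : VV K ≤ E := le_trans (fun x hx => mem_YY.2 ⟨(mem_VV.1 hx).1, (mem_VV.1 hx).2.2⟩) hY
  have hZE : ZS K ≤ E := le_trans (fun x hx => mem_VV.2 ⟨(mem_ZS.1 hx).1, (mem_ZS.1 hx).2.1, (mem_ZS.1 hx).2.2.1⟩) hVE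
  -- an element `z'` of `E` outside `Q₂`
  obtain ⟨z', hz'E, hz'⟩ : ∃ z ∈ E, z ∉ Q2 K := by
    by_contra hcon
    push Not at hcon
    exact hEQ fun x hx => hcon x hx
  -- a central element of `E` outside `Z`
  obtain ⟨y0, hy0E, hy0c, hy0⟩ : ∃ y ∈ E, (∀ x ∈ E, x * y = y * x) ∧ y ∉ ZS K := by
    by_contra hcon
    push Not at hcon
    refine hZ ⟨hZE, fun γ _ e he => ?_⟩
    refine hcon _ (γ e).2 fun x hx => ?_
    have h1 : e * γ⁻¹ ⟨x, hx⟩ = γ⁻¹ ⟨x, hx⟩ * e := Subtype.ext (comm_ZS he _)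
    have h2 := congrArg γ h1
    rw [map_mul, map_mul, MulAut.apply_inv_self] at h2
    exact (congrArg Subtype.val h2).symm
  -- it lies in `Z₂`
  have hy0V : y0 ∈ VV K := mem_VV_of_comm h fun z hz => hy0c z (hY hz)
  obtain ⟨v1, v2, v3⟩ := hy0V
  have hc0 : y0.c = 0 := by
    have h2 := (comm_of_Q2 v1 hz' (hy0c z' hz'E).symm).2.1
    rw [v2, zero_mul, neg_zero] at h2
    exact (mul_eq_zero.1 h2).resolve_left hz'
  have hb0 : y0.b ≠ 0 := fun hb => hy0 ⟨v1, v2, v3, hb, hc0⟩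
  have hr : ∀ x ∈ E, star x.r * y0.b = x.r * star y0.b := by
    intro x hx
    by_cases hxr : x.r = 0
    · rw [hxr, star_zero, zero_mul, zero_mul]
    · have h2 := (comm_of_Q2 v1 hxr (hy0c x hx).symm).2.2
      rw [UG.d, v2, v3, hc0] at h2
      simp only [star_zero, mul_zero, sub_zero, add_zero, zero_mul] at h2
      linear_combination h2
  -- cardinalities
  have hEQY : YY K ≤ E ⊓ Q2 K := le_inf hY fun x hx => hx.1
  have hcardEQ : (p ^ n) ^ 6 ≤ Nat.card ↥(E ⊓ Q2 K) :=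
    (card_YY_ge h).trans (Subgroup.card_le_of_le hEQY)
  have hq1 : 1 < p ^ n := by omega
  have hlt : (p ^ n) ^ 5 < (p ^ n) ^ 6 := Nat.pow_lt_pow_right hq1 (by norm_num)
  have hlt' : (p ^ n) ^ 3 < (p ^ n) ^ 4 := Nat.pow_lt_pow_right hq1 (by norm_num)
  -- `V` is invariant
  have hVinv : Inv Γ (VV K) := by
    refine ⟨hVE, fun γ _ e he => ?_⟩
    by_contra hx
    obtain ⟨X, hXd⟩ : ∃ X, X = img γ (E ⊓ Q2 K) := ⟨_, rfl⟩
    obtain ⟨V', hVd⟩ : ∃ V', V' = img γ (VV K) := ⟨_, rfl⟩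
    have hXE : X ≤ E := by rw [hXd]; exact img_le γ _
    have hXc : (p ^ n) ^ 6 ≤ Nat.card X := by
      rw [hXd, card_img γ inf_le_left]; exact hcardEQ
    have hVc : (p ^ n) ^ 4 ≤ Nat.card V' := by
      rw [hVd, card_img γ hVE]; exact card_VV_ge h
    have hcomm : ∀ x ∈ X, ∀ v ∈ V', x * v = v * x := by
      intro x hx v hv
      rw [hXd, mem_img] at hx
      rw [hVd, mem_img] at hv
      obtain ⟨e1, he1, rfl⟩ := hx
      obtain ⟨e2, he2, rfl⟩ := hv
      have h1 : e1 * e2 = e2 * e1 := Subtype.ext (comm_V he1.2 he2)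
      have h2 := congrArg γ h1
      rw [map_mul, map_mul] at h2
      exact congrArg Subtype.val h2
    have hab : ∀ x ∈ V', ∀ v ∈ V', x * v = v * x := by
      intro x hx v hv
      refine hcomm x ?_ v hv
      rw [hVd, mem_img] at hx
      obtain ⟨e1, he1, rfl⟩ := hx
      rw [hXd, mem_img]
      exact ⟨e1, ⟨e1.2, he1.1⟩, rfl⟩
    have hxV : ((γ e : E) : UG K) ∈ V' := by rw [hVd, mem_img]; exact ⟨e, he, rfl⟩
    by_cases hVQ : V' ≤ Q2 K
    · -- case (i)
      by_cases hXQ : X ≤ Q2 K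
      · have h1 := card_Q2Q2 h (hVQ hxV) hx X hXQ fun x hx => hcomm x hx _ hxV
        have h2 := card_VV_le h (X ⊓ VV K) inf_le_right
        have h3 : Nat.card X ≤ (p ^ n) ^ 5 := by
          calc Nat.card X ≤ _ := h1
            _ ≤ p ^ n * (p ^ n) ^ 4 := Nat.mul_le_mul_left _ h2
            _ = (p ^ n) ^ 5 := by ring
        omega
      · obtain ⟨z, hzX, hz⟩ : ∃ z ∈ X, z ∉ Q2 K := by
          by_contra hcon
          push Not at hcon
          exact hXQ fun x hx => hcon x hx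
        have h1 := card_Q2Q2 h (hVQ hxV) hx V' hVQ fun x hx => hab x hx _ hxV
        have h2 := card_VC_le h (g := z) hz (V' ⊓ VV K) inf_le_right fun x hx => (hcomm z hzX x hx.1).symm
        have h3 : Nat.card V' ≤ (p ^ n) ^ 3 := by
          calc Nat.card V' ≤ _ := h1
            _ ≤ p ^ n * (p ^ n) ^ 2 := Nat.mul_le_mul_left _ h2
            _ = (p ^ n) ^ 3 := by ring
        omega
    · -- case (ii)
      obtain ⟨z, hzV, hz⟩ : ∃ z ∈ V', z ∉ Q2 K := by
        by_contra hcon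
        push Not at hcon
        exact hVQ fun x hx => hcon x hx
      have h1 := card_le_inf_Q2 h hb0 X fun x hx => hr x (hXE hx)
      have h2 := card_Q2C_le h (g := z) hz (X ⊓ Q2 K) inf_le_right fun x hx => hcomm x hx.1 z hzV
      have h3 : Nat.card X ≤ (p ^ n) ^ 5 := by
        calc Nat.card X ≤ _ := h1
          _ ≤ p ^ n * (p ^ n) ^ 4 := Nat.mul_le_mul_left _ h2
          _ = (p ^ n) ^ 5 := by ring
      omega
  -- `E ∩ Q₂ = C_E(V)` is invariant
  have hQinv : Inv Γ (E ⊓ Q2 K) := by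
    refine ⟨inf_le_left, fun γ hγ e he => ⟨(γ e).2, mem_Q2_of_comm h fun z hz => ?_⟩⟩
    have hzV : z ∈ VV K := ⟨hz.1, hz.2.1, hz.2.2.1⟩
    have h1 := hVinv.2 γ⁻¹ (inv_mem hγ) ⟨z, hVE hzV⟩ hzV
    have h2 : e * γ⁻¹ ⟨z, hVE hzV⟩ = γ⁻¹ ⟨z, hVE hzV⟩ * e := Subtype.ext (comm_V he.2 h1)
    have h3 := congrArg γ h2
    rw [map_mul, map_mul, MulAut.apply_inv_self] at h3
    exact (congrArg Subtype.val h3).symm
  -- the chain `E ≥ E ∩ Q₂ ≥ V ≥ 1`
  have hQE : Q2 K ≤ E := by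
    refine Cfsg.Agent.H732.PU.stChain hE (VV K) (VV K) (E ⊓ Q2 K) hVinv hVinv hQinv le_rfl
      (le_inf hVE fun x hx => hx.1) (Q2 K) le_top ?_ ?_ ?_ ?_
    · intro x hx e _
      have hx' : x.r = 0 := hx
      have h1 : x * e * x⁻¹ * e⁻¹ ∈ YY K := by
        constructor
        · simp only [UG.mul_r, UG.inv_r]; ring
        · simp only [UG.mul_u2, UG.inv_u2]; ring
      exact ⟨hY h1, h1.1⟩
    · intro x hx e he
      have hx' : x.r = 0 := hx
      have he' : e.r = 0 := he.2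
      refine ⟨?_, ?_, ?_⟩
      · simp only [UG.mul_r, UG.inv_r]; ring
      · simp only [UG.mul_r, UG.mul_u1, UG.inv_r, UG.inv_u1, UG.inv_u2, hx', he']; ring
      · simp only [UG.mul_u2, UG.inv_u2]; ring
    · intro x hx v hv
      rw [comm_V hx hv, mul_inv_cancel_right, mul_inv_cancel]
      exact one_mem _
    · intro x hx m hm
      exact comm_V hx hm
  refine ⟨hQE, ?_⟩
  have e : E ⊓ Q2 K = Q2 K := inf_eq_right.2 hQE
  rwa [e] at hQinv

end Cfsg.Agent.H801.PU
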