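import Cfsg.Agent.H756.PU.Stmts

/-!
# S5258: counting in `UG K` (helper801)

* `card_le_of_fiber` : `|X| ≤ |T| |Y|` if `f` maps `X` to `T` with fibers in cosets of `Y`
* `card_lin`, `card_ker`, `card_fix` : solutions of `x^q + ε x = 0`; `exists_tr` : the trace is surjective
* `finite_UG`, `card_ZS_le`, `card_Z2C_le`, `card_VC_le`, `card_Q2C_le`, `card_Q2Q2`
* `card_VV_ge`, `card_VV_le`, `card_YY_ge`
-/

set_option autoImplicit false

namespace Cfsg.Agent.H801.PU

open Cfsg Cfsg.FusionSystem Cfsg.Agent.H756.PU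

universe u

/-- A counting lemma. -/
@[to_additive card_le_of_fiber_add]
theorem card_le_of_fiber {G A : Type*} [Group G] [Finite G] (X Y : Subgroup G) (f : G → A) (T : Set A) [Finite T]
    (hT : ∀ x ∈ X, f x ∈ T) (hf : ∀ x ∈ X, ∀ y ∈ X, f x = f y → x⁻¹ * y ∈ Y) :
    Nat.card X ≤ Nat.card T * Nat.card Y := by
  classical
  let x0 : A → G := fun t => if h : ∃ x, x ∈ X ∧ f x = t then h.choose else 1
  have hx0 : ∀ x ∈ X, x0 (f x) ∈ X ∧ f (x0 (f x)) = f x := by
    intro x hx
    have h : ∃ y, y ∈ X ∧ f y = f x := ⟨x, hx, rfl⟩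
    have e : x0 (f x) = h.choose := dif_pos h
    rw [e]
    exact h.choose_spec
  let φ : X → T × Y := fun x => (⟨f x, hT x x.2⟩, ⟨(x0 (f x))⁻¹ * x, hf _ (hx0 x x.2).1 _ x.2 (hx0 x x.2).2⟩)
  have hφ : Function.Injective φ := by
    intro x y h
    have h1 : f x = f y := congrArg Subtype.val (congrArg Prod.fst h)
    have h2 : (x0 (f x))⁻¹ * (x : G) = (x0 (f y))⁻¹ * y := congrArg Subtype.val (congrArg Prod.snd h)
    rw [h1] at h2
    exact Subtype.ext (mul_left_cancel h2)
  rw [← Nat.card_prod]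
  exact Nat.card_le_card_of_injective φ hφ

section Field

variable {K : Type u} [Field K] [StarRing K] {p n : ℕ}

theorem two_le (h : HypK K p n) : 2 ≤ p ^ n :=
  le_trans h.pp.two_le (Nat.le_self_pow (by have := h.hn; omega) p)

/-- The equation `x^q + ε x = 0` has at most `q` solutions. -/
theorem card_lin (h : HypK K p n) (ε : K) : Nat.card {x : K | star x + ε * x = 0} ≤ p ^ n := by
  classical
  have := h.fin
  have := Fintype.ofFinite K
  set q := p ^ n with hq
  have hq2 := two_le h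
  let P : Polynomial K := Polynomial.X ^ q + Polynomial.C ε * Polynomial.X
  have hdeg : P.natDegree = q := by
    have h1 : (Polynomial.C ε * Polynomial.X : Polynomial K).natDegree < (Polynomial.X ^ q : Polynomial K).natDegree := by
      rw [Polynomial.natDegree_X_pow]
      refine lt_of_le_of_lt (Polynomial.natDegree_C_mul_le ε _) ?_
      rw [Polynomial.natDegree_X]; omega
    rw [Polynomial.natDegree_add_eq_left_of_natDegree_lt h1, Polynomial.natDegree_X_pow]
  have hP : P ≠ 0 := by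
    intro h0
    rw [h0, Polynomial.natDegree_zero] at hdeg
    omega
  have hsub : {x : K | star x + ε * x = 0} ⊆ (P.roots.toFinset : Set K) := by
    intro x hx
    have hx' : star x + ε * x = 0 := hx
    rw [Finset.mem_coe, Multiset.mem_toFinset, Polynomial.mem_roots hP, Polynomial.IsRoot.def]
    simp only [P, Polynomial.eval_add, Polynomial.eval_pow, Polynomial.eval_X, Polynomial.eval_mul,
      Polynomial.eval_C]
    rw [← h.star_eq, hx']
  calc Nat.card {x : K | star x + ε * x = 0} ≤ Nat.card (P.roots.toFinset : Set K) :=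
        Nat.card_mono (Finset.finite_toSet _) hsub
    _ = P.roots.toFinset.card := by
        rw [Nat.card_coe_set_eq, Set.ncard_coe_finset]
    _ ≤ P.roots.card := Multiset.toFinset_card_le _
    _ ≤ P.natDegree := Polynomial.card_roots' P
    _ = q := hdeg

theorem card_fix_le (h : HypK K p n) : Nat.card {x : K | star x = x} ≤ p ^ n := by
  have h1 := card_lin h (-1)
  have e : {x : K | star x + (-1) * x = 0} = {x : K | star x = x} := by
    ext x
    simp only [Set.mem_setOf_eq]
    constructor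
    · intro hx; linear_combination hx
    · intro hx; linear_combination hx
  rwa [e] at h1

theorem card_ker_le (h : HypK K p n) : Nat.card {x : K | x + star x = 0} ≤ p ^ n := by
  have h1 := card_lin h 1
  have e : {x : K | star x + 1 * x = 0} = {x : K | x + star x = 0} := by
    ext x
    simp only [Set.mem_setOf_eq]
    constructor
    · intro hx; linear_combination hx
    · intro hx; linear_combination hx
  rwa [e] at h1

theorem card_ker (h : HypK K p n) : Nat.card {x : K | x + star x = 0} = p ^ n := by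
  have := h.fin
  refine le_antisymm (card_ker_le h) ?_
  let Y : AddSubgroup K :=
    { carrier := {x | star x = x}
      zero_mem' := star_zero K
      add_mem' := fun {a b} ha hb => by
        have ha' : star a = a := ha
        have hb' : star b = b := hb
        change star (a + b) = a + b
        rw [star_add, ha', hb']
      neg_mem' := fun {a} ha => by
        have ha' : star a = a := ha
        change star (-a) = -a
        rw [star_neg, ha'] }
  have h1 := card_le_of_fiber_add (⊤ : AddSubgroup K) Y (fun x => x - star x) {x : K | x + star x = 0}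
    (fun x _ => by
      change x - star x + star (x - star x) = 0
      rw [star_sub, star_star]; ring)
    (fun x _ y _ hxy => by
      have hxy' : x - star x = y - star y := hxy
      change star (-x + y) = -x + y
      rw [star_add, star_neg]
      linear_combination hxy')
  rw [AddSubgroup.card_top, h.card, pow_two] at h1
  have h2 : Nat.card Y ≤ p ^ n := card_fix_le h
  have h3 : 0 < p ^ n := by have := two_le h; omega
  have h4 := h1.trans (Nat.mul_le_mul_left _ h2)
  exact Nat.le_of_mul_le_mul_right h4 h3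

theorem exists_not_fix (h : HypK K p n) : ∃ x : K, star x ≠ x := by
  by_contra hcon
  push Not at hcon
  have := h.fin
  have h1 := card_fix_le h
  have e : {x : K | star x = x} = Set.univ := Set.eq_univ_of_forall hcon
  rw [e, Nat.card_univ, h.card] at h1
  have := two_le h
  nlinarith

/-- The trace is surjective. -/
theorem exists_tr (h : HypK K p n) (s : K) (hs : star s = s) : ∃ a : K, a + star a = s := by
  have := h.fin
  obtain ⟨a0, ha0⟩ : ∃ a : K, a + star a ≠ 0 := by
    by_contra hcon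
    push Not at hcon
    have h1 := card_ker_le h
    have e : {x : K | x + star x = 0} = Set.univ := Set.eq_univ_of_forall hcon
    rw [e, Nat.card_univ, h.card] at h1
    have := two_le h
    nlinarith
  refine ⟨s / (a0 + star a0) * a0, ?_⟩
  have h2 : star (s / (a0 + star a0)) = s / (a0 + star a0) := by
    rw [star_div₀, hs, star_add, star_star, add_comm (star a0)]
  rw [star_mul', h2]
  field_simp

end Field

section Grp

variable {K : Type u} [Field K] [StarRing K] {p n : ℕ}

theorem finite_UG [Finite K] : Finite (UG K) :=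
  Finite.of_injective (fun x : UG K => (x.r, x.u1, x.u2, x.a, x.b, x.c)) (by
    intro x y h
    simp only [Prod.mk.injEq] at h
    obtain ⟨h1, h2, h3, h4, h5, h6⟩ := h
    exact UG.ext h1 h2 h3 h4 h5 h6)

theorem mem_ZS {g : UG K} : g ∈ ZS K ↔ g.r = 0 ∧ g.u1 = 0 ∧ g.u2 = 0 ∧ g.b = 0 ∧ g.c = 0 := Iff.rfl
theorem mem_Z2 {g : UG K} : g ∈ Z2 K ↔ g.r = 0 ∧ g.u1 = 0 ∧ g.u2 = 0 ∧ g.c = 0 := Iff.rfl
theorem mem_VV {g : UG K} : g ∈ VV K ↔ g.r = 0 ∧ g.u1 = 0 ∧ g.u2 = 0 := Iff.rfl
theorem mem_YY {g : UG K} : g ∈ YY K ↔ g.r = 0 ∧ g.u2 = 0 := Iff.rfl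
theorem mem_Q2 {g : UG K} : g ∈ Q2 K ↔ g.r = 0 := Iff.rfl

/-- commuting elements of `Q₂` -/
theorem comm_Q2 {x y : UG K} (hx : x.r = 0) (hy : y.r = 0) :
    x * y = y * x ↔ x.u1 * star y.u1 = y.u1 * star x.u1 ∧ x.u1 * star y.u2 = y.u1 * star x.u2 ∧
      x.u2 * star y.u2 = y.u2 * star x.u2 := by
  constructor
  · intro h
    have ha := congrArg UG.a h
    have hb := congrArg UG.b h
    have hc := congrArg UG.c h
    simp only [UG.mul_a, UG.mul_b, UG.mul_c, hx, hy, star_zero, zero_mul, add_zero, mul_zero] at ha hb hc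
    exact ⟨by linear_combination -ha, by linear_combination -hb, by linear_combination -hc⟩
  · rintro ⟨h1, h2, h3⟩
    ext
    · simp only [UG.mul_r, hx, hy]
    · simp only [UG.mul_u1, hx, hy]; ring
    · simp only [UG.mul_u2]; ring
    · simp only [UG.mul_a, hx, hy, star_zero, zero_mul, add_zero]; linear_combination -h1
    · simp only [UG.mul_b, hx, hy, zero_mul, add_zero]; linear_combination -h2
    · simp only [UG.mul_c]; linear_combination -h3

/-- elements of `Q₂` commuting with `g ∉ Q₂` -/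
theorem comm_of_Q2 {x g : UG K} (hx : x.r = 0) (hg : g.r ≠ 0) (h : x * g = g * x) :
    x.u2 = 0 ∧ g.r * x.c = -(x.u1 * star g.u2) ∧
      g.r * x.d + star g.r * x.b + g.r * star g.r * x.c = g.u1 * star x.u1 - x.u1 * star g.u1 := by
  have hu := congrArg UG.u1 h
  have ha := congrArg UG.a h
  have hb := congrArg UG.b h
  simp only [UG.mul_u1, hx, zero_mul, add_zero] at hu
  have h2 : x.u2 = 0 := by
    have : g.r * x.u2 = 0 := by linear_combination -hu
    exact (mul_eq_zero.1 this).resolve_left hg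
  simp only [UG.mul_a, UG.mul_b, hx, h2, star_zero, zero_mul, add_zero, mul_zero, sub_zero] at ha hb
  exact ⟨h2, by linear_combination -hb, by linear_combination -ha⟩

theorem inv_mul_Z2 {x y : UG K} (hx : x ∈ Z2 K) (hy : y ∈ Z2 K) : (x⁻¹ * y).b = y.b - x.b := by
  obtain ⟨h1, h2, h3, h4⟩ := hx
  simp only [UG.mul_b, UG.inv_b, UG.inv_r, UG.inv_u1, UG.d, h1, h2, h3, h4, star_sub, star_neg, star_star,
    star_zero, mul_zero, zero_mul, sub_zero, neg_zero, add_zero]
  ring

theorem inv_mul_ZS {x y : UG K} (hx : x ∈ ZS K) (hy : y ∈ ZS K) : (x⁻¹ * y).a = y.a - x.a := by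
  obtain ⟨h1, h2, h3, h4, h5⟩ := hx
  obtain ⟨k1, k2, k3, k4, k5⟩ := hy
  have h6 := x.ha
  rw [h2, zero_mul, add_zero] at h6
  simp only [UG.mul_a, UG.inv_a, UG.inv_r, UG.inv_u1, UG.d, h1, h2, h3, h4, h5, k1, k2, k3, k4, k5, star_sub,
    star_neg, star_star, star_zero, mul_zero, zero_mul, sub_zero, neg_zero, add_zero]
  linear_combination h6

theorem card_ZS_le (h : HypK K p n) (X : Subgroup (UG K)) (hX : X ≤ ZS K) : Nat.card X ≤ p ^ n := by
  have := h.fin
  have := finite_UG (K := K)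
  have h1 := card_le_of_fiber X (⊥ : Subgroup (UG K)) (fun x => x.a) {x : K | x + star x = 0}
    (fun x hx => by
      have h2 := x.ha
      rw [(hX hx).2.1, zero_mul, add_zero] at h2
      exact h2)
    (fun x hx y hy hxy => by
      have h3 := mul_mem (inv_mem (hX hx)) (hX hy)
      obtain ⟨e1, e2, e3, e4, e5⟩ := mem_ZS.1 h3
      rw [Subgroup.mem_bot]
      ext
      · exact e1
      · exact e2
      · exact e3
      · rw [inv_mul_ZS (hX hx) (hX hy), show x.a = y.a from hxy, sub_self]; rfl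
      · exact e4
      · exact e5)
  rw [Subgroup.card_bot, mul_one] at h1
  exact h1.trans (card_ker_le h)

/-- `|C_{Z₂}(g)| ≤ q²` -/
theorem card_Z2C_le (h : HypK K p n) {g : UG K} (hg : g.r ≠ 0) (X : Subgroup (UG K)) (hX : X ≤ Z2 K)
    (hc : ∀ x ∈ X, x * g = g * x) : Nat.card X ≤ (p ^ n) ^ 2 := by
  have := h.fin
  have := finite_UG (K := K)
  have h1 := card_le_of_fiber X (X ⊓ ZS K) (fun x => x.b) {x : K | star x + (-(star g.r / g.r)) * x = 0}
    (fun x hx => by
      obtain ⟨e1, e2, e3, e4⟩ := hX hx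
      have h2 := (comm_of_Q2 e1 hg (hc x hx)).2.2
      rw [UG.d, e2, e3, e4] at h2
      change star x.b + (-(star g.r / g.r)) * x.b = 0
      have h3 : g.r * (star x.b + (-(star g.r / g.r)) * x.b) = 0 := by
        field_simp
        simp only [star_zero, mul_zero, sub_zero, add_zero, zero_mul] at h2
        linear_combination -h2
      exact (mul_eq_zero.1 h3).resolve_left hg)
    (fun x hx y hy hxy => by
      have h3 := mul_mem (inv_mem hx) hy
      obtain ⟨e1, e2, e3, e4⟩ := hX h3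
      exact ⟨h3, e1, e2, e3, by rw [inv_mul_Z2 (hX hx) (hX hy), show x.b = y.b from hxy, sub_self], e4⟩)
  have h2 := card_ZS_le h (X ⊓ ZS K) inf_le_right
  have h3 := card_lin h (-(star g.r / g.r))
  calc Nat.card X ≤ _ := h1
    _ ≤ p ^ n * p ^ n := Nat.mul_le_mul h3 h2
    _ = (p ^ n) ^ 2 := (pow_two _).symm

/-- `|C_V(g)| ≤ q²` -/
theorem card_VC_le (h : HypK K p n) {g : UG K} (hg : g.r ≠ 0) (X : Subgroup (UG K)) (hX : X ≤ VV K)
    (hc : ∀ x ∈ X, x * g = g * x) : Nat.card X ≤ (p ^ n) ^ 2 := by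
  refine card_Z2C_le h hg X (fun x hx => ?_) hc
  obtain ⟨e1, e2, e3⟩ := hX hx
  have h2 := (comm_of_Q2 e1 hg (hc x hx)).2.1
  rw [e2, zero_mul, neg_zero] at h2
  exact ⟨e1, e2, e3, (mul_eq_zero.1 h2).resolve_left hg⟩

/-- `|C_{Q₂}(g)| ≤ q⁴` -/
theorem card_Q2C_le (h : HypK K p n) {g : UG K} (hg : g.r ≠ 0) (X : Subgroup (UG K)) (hX : X ≤ Q2 K)
    (hc : ∀ x ∈ X, x * g = g * x) : Nat.card X ≤ (p ^ n) ^ 4 := by
  have := h.fin
  have := finite_UG (K := K)
  have key : ∀ x ∈ X, x.u1 = 0 → x ∈ Z2 K := by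
    intro x hx h1
    obtain ⟨e1, e2, -⟩ := comm_of_Q2 (hX hx) hg (hc x hx)
    rw [h1, zero_mul, neg_zero] at e2
    exact ⟨hX hx, h1, e1, (mul_eq_zero.1 e2).resolve_left hg⟩
  have h1 := card_le_of_fiber X (X ⊓ Z2 K) (fun x => x.u1) (Set.univ : Set K) (fun _ _ => Set.mem_univ _)
    (fun x hx y hy hxy => by
      have h3 := mul_mem (inv_mem hx) hy
      refine ⟨h3, key _ h3 ?_⟩
      have e1 : x.r = 0 := hX hx
      have hxy' : x.u1 = y.u1 := hxy
      simp only [UG.mul_u1, UG.inv_u1, UG.inv_r, e1, hxy']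
      ring)
  rw [Nat.card_univ, h.card] at h1
  have h2 := card_Z2C_le h hg (X ⊓ Z2 K) inf_le_right (fun x hx => hc x hx.1)
  calc Nat.card X ≤ _ := h1
    _ ≤ (p ^ n) ^ 2 * (p ^ n) ^ 2 := Nat.mul_le_mul_left _ h2
    _ = (p ^ n) ^ 4 := by ring

/-- For `x ∈ Q₂ ∖ V` the centralizer of `x` in `Q₂` has at most `q` cosets of `V`. -/
theorem card_Q2Q2 (h : HypK K p n) {g : UG K} (hg : g ∈ Q2 K) (hg' : g ∉ VV K) (X : Subgroup (UG K))
    (hX : X ≤ Q2 K) (hc : ∀ x ∈ X, x * g = g * x) : Nat.card X ≤ p ^ n * Nat.card ↥(X ⊓ VV K) := by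
  have := h.fin
  have := finite_UG (K := K)
  have hcom : ∀ x ∈ X, x.u1 * star g.u1 = g.u1 * star x.u1 ∧ x.u1 * star g.u2 = g.u1 * star x.u2 ∧
      x.u2 * star g.u2 = g.u2 * star x.u2 := fun x hx => (comm_Q2 (hX hx) hg).1 (hc x hx)
  have hcoord : ∀ x ∈ X, ∀ y ∈ X, (x⁻¹ * y).u1 = y.u1 - x.u1 ∧ (x⁻¹ * y).u2 = y.u2 - x.u2 := by
    intro x hx y _
    have e1 : x.r = 0 := hX hx
    constructor
    · simp only [UG.mul_u1, UG.inv_u1, UG.inv_r, e1]; ring
    · simp only [UG.mul_u2, UG.inv_u2]; ring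
  by_cases h2 : g.u2 = 0
  · have h1 : g.u1 ≠ 0 := fun h1 => hg' ⟨hg, h1, h2⟩
    have hs1 : star g.u1 ≠ 0 := star_ne_zero.2 h1
    have hx2 : ∀ x ∈ X, x.u2 = 0 := by
      intro x hx
      have h3 := (hcom x hx).2.1
      rw [h2, star_zero, mul_zero] at h3
      exact star_eq_zero.1 ((mul_eq_zero.1 h3.symm).resolve_left h1)
    have h4 := card_le_of_fiber X (X ⊓ VV K) (fun x => x.u1) {x : K | star x + (-(star g.u1 / g.u1)) * x = 0}
      (fun x hx => by
        have h3 := (hcom x hx).1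
        change star x.u1 + (-(star g.u1 / g.u1)) * x.u1 = 0
        have h5 : g.u1 * (star x.u1 + (-(star g.u1 / g.u1)) * x.u1) = 0 := by
          field_simp
          linear_combination -h3
        exact (mul_eq_zero.1 h5).resolve_left h1)
      (fun x hx y hy hxy => by
        have h3 := mul_mem (inv_mem hx) hy
        have hxy' : x.u1 = y.u1 := hxy
        refine ⟨h3, hX h3, ?_, hx2 _ h3⟩
        rw [(hcoord x hx y hy).1, hxy', sub_self])
    exact h4.trans (Nat.mul_le_mul_right _ (card_lin h _))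
  · have hs2 : star g.u2 ≠ 0 := star_ne_zero.2 h2
    have h4 := card_le_of_fiber X (X ⊓ VV K) (fun x => x.u2) {x : K | star x + (-(star g.u2 / g.u2)) * x = 0}
      (fun x hx => by
        have h3 := (hcom x hx).2.2
        change star x.u2 + (-(star g.u2 / g.u2)) * x.u2 = 0
        have h5 : g.u2 * (star x.u2 + (-(star g.u2 / g.u2)) * x.u2) = 0 := by
          field_simp
          linear_combination -h3
        exact (mul_eq_zero.1 h5).resolve_left h2)
      (fun x hx y hy hxy => by
        have h3 := mul_mem (inv_mem hx) hy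
        have hxy' : x.u2 = y.u2 := hxy
        have e2 : (x⁻¹ * y).u2 = 0 := by rw [(hcoord x hx y hy).2, hxy', sub_self]
        refine ⟨h3, hX h3, ?_, e2⟩
        have h5 := (hcom _ h3).2.1
        rw [e2, star_zero, mul_zero] at h5
        exact (mul_eq_zero.1 h5).resolve_right hs2)
    exact h4.trans (Nat.mul_le_mul_right _ (card_lin h _))

theorem card_VV_le (h : HypK K p n) (X : Subgroup (UG K)) (hX : X ≤ VV K) : Nat.card X ≤ (p ^ n) ^ 4 := by
  have := h.fin
  let f : X → {x : K | x + star x = 0} × K × {x : K | x + star x = 0} := fun x =>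
    (⟨(x : UG K).a, by
      have h1 := (x : UG K).ha
      rw [(hX x.2).2.1, zero_mul, add_zero] at h1
      exact h1⟩, (x : UG K).b, ⟨(x : UG K).c, by
      have h1 := (x : UG K).hc
      rw [(hX x.2).2.2, zero_mul, add_zero] at h1
      exact h1⟩)
  have hf : Function.Injective f := by
    intro x y hxy
    have h1 : (x : UG K).a = (y : UG K).a := congrArg Subtype.val (congrArg Prod.fst hxy)
    have h2 : (x : UG K).b = (y : UG K).b := congrArg Prod.fst (congrArg Prod.snd hxy)
    have h3 : (x : UG K).c = (y : UG K).c := congrArg Subtype.val (congrArg Prod.snd (congrArg Prod.snd hxy))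
    obtain ⟨a1, a2, a3⟩ := hX x.2
    obtain ⟨b1, b2, b3⟩ := hX y.2
    exact Subtype.ext (UG.ext (a1.trans b1.symm) (a2.trans b2.symm) (a3.trans b3.symm) h1 h2 h3)
  have h1 := Nat.card_le_card_of_injective f hf
  rw [Nat.card_prod, Nat.card_prod, card_ker h, h.card] at h1
  calc Nat.card X ≤ _ := h1
    _ = (p ^ n) ^ 4 := by ring

theorem card_VV_ge (h : HypK K p n) : (p ^ n) ^ 4 ≤ Nat.card (VV K) := by
  have := h.fin
  have := finite_UG (K := K)
  let f : {x : K | x + star x = 0} × K × {x : K | x + star x = 0} → VV K := fun x =>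
    ⟨{ r := 0, u1 := 0, u2 := 0, a := x.1, b := x.2.1, c := x.2.2
       ha := by rw [star_zero, mul_zero, add_zero]; exact x.1.2
       hc := by rw [star_zero, mul_zero, add_zero]; exact x.2.2.2 }, rfl, rfl, rfl⟩
  have hf : Function.Injective f := by
    rintro ⟨⟨x1, h1⟩, x2, ⟨x3, h3⟩⟩ ⟨⟨y1, k1⟩, y2, ⟨y3, k3⟩⟩ hxy
    have e := congrArg Subtype.val hxy
    have e1 : x1 = y1 := congrArg UG.a e
    have e2 : x2 = y2 := congrArg UG.b e
    have e3 : x3 = y3 := congrArg UG.c e
    subst e1 e2 e3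
    rfl
  have h1 := Nat.card_le_card_of_injective f hf
  rw [Nat.card_prod, Nat.card_prod, card_ker h, h.card] at h1
  calc (p ^ n) ^ 4 = p ^ n * ((p ^ n) ^ 2 * p ^ n) := by ring
    _ ≤ Nat.card (VV K) := h1

/-- an element of `Y` with given `u1` -/
theorem exists_YY (h : HypK K p n) (u : K) : ∃ y : UG K, y ∈ YY K ∧ y.u1 = u ∧ y.b = 0 ∧ y.c = 0 := by
  obtain ⟨a, ha⟩ := exists_tr h (-(u * star u)) (by rw [star_neg, star_mul', star_star, mul_comm])
  exact ⟨{ r := 0, u1 := u, u2 := 0, a := a, b := 0, c := 0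
           ha := by rw [ha]; ring
           hc := by simp }, ⟨rfl, rfl⟩, rfl, rfl, rfl⟩

theorem card_YY_ge (h : HypK K p n) : (p ^ n) ^ 6 ≤ Nat.card (YY K) := by
  have := h.fin
  have := finite_UG (K := K)
  choose y hy hy1 _ _ using exists_YY h
  let f : K × VV K → YY K := fun x => ⟨y x.1 * x.2, mul_mem (hy x.1) ⟨x.2.2.1, x.2.2.2.2⟩⟩
  have hf : Function.Injective f := by
    rintro ⟨u, v⟩ ⟨u', v'⟩ hxy
    have e : y u * (v : UG K) = y u' * v' := congrArg Subtype.val hxy
    have e1 := congrArg UG.u1 e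
    rw [UG.mul_u1, UG.mul_u1, v.2.2.2, v'.2.2.2, v.2.2.1, v'.2.2.1, hy1, hy1, mul_zero, mul_zero, add_zero, add_zero,
      add_zero, add_zero] at e1
    subst e1
    have e2 : v = v' := Subtype.ext (mul_left_cancel e)
    rw [e2]
  have h1 := Nat.card_le_card_of_injective f hf
  rw [Nat.card_prod, h.card] at h1
  calc (p ^ n) ^ 6 = (p ^ n) ^ 2 * (p ^ n) ^ 4 := by ring
    _ ≤ (p ^ n) ^ 2 * Nat.card (VV K) := Nat.mul_le_mul_left _ (card_VV_ge h)
    _ ≤ Nat.card (YY K) := h1

/-- `C_S(Z₂) = Q₂` -/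
theorem mem_Q2_of_comm (h : HypK K p n) {g : UG K} (hg : ∀ z ∈ Z2 K, z * g = g * z) : g ∈ Q2 K := by
  by_contra hr
  have hr' : g.r ≠ 0 := hr
  have key : ∀ b : K, star g.r * b = g.r * star b := by
    intro b
    have h1 := hg { r := 0, u1 := 0, u2 := 0, a := 0, b := b, c := 0, ha := by simp, hc := by simp }
      ⟨rfl, rfl, rfl, rfl⟩
    have h2 := (comm_of_Q2 rfl hr' h1).2.2
    simp only [UG.d, star_zero, mul_zero, sub_zero, add_zero] at h2
    linear_combination h2
  obtain ⟨b, hb⟩ := exists_not_fix h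
  have h1 := key 1
  rw [star_one, mul_one, mul_one] at h1
  have h2 := key b
  rw [h1] at h2
  exact hb (mul_left_cancel₀ hr' h2).symm

/-- `Q₂` centralizes `V` -/
theorem comm_V {x v : UG K} (hx : x ∈ Q2 K) (hv : v ∈ VV K) : x * v = v * x := by
  rw [comm_Q2 hx hv.1, hv.2.1, hv.2.2]
  simp

/-- `Z` is central -/
theorem comm_ZS {z : UG K} (hz : z ∈ ZS K) (g : UG K) : z * g = g * z := by
  obtain ⟨h1, h2, h3, h4, h5⟩ := hz
  ext
  · simp only [UG.mul_r]; ring
  · simp only [UG.mul_u1, h1, h2, h3]; ring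
  · simp only [UG.mul_u2]; ring
  · simp only [UG.mul_a, UG.d, h1, h2, h3, h4, h5, star_zero]; ring
  · simp only [UG.mul_b, h1, h2, h3, h4, h5, star_zero]; ring
  · simp only [UG.mul_c, h3, h5, star_zero]; ring

/-- `C_S(Y) ≤ V` -/
theorem mem_VV_of_comm (h : HypK K p n) {g : UG K} (hg : ∀ z ∈ YY K, z * g = g * z) : g ∈ VV K := by
  have hr : g.r = 0 := mem_Q2_of_comm h fun z hz => hg z ⟨hz.1, hz.2.2.1⟩
  have key : ∀ u : K, u * star g.u1 = g.u1 * star u ∧ u * star g.u2 = 0 := by
    intro u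
    obtain ⟨y, hy, hy1, -, -⟩ := exists_YY h u
    have h1 := (comm_Q2 hy.1 hr).1 (hg y hy)
    rw [hy1, hy.2, star_zero, mul_zero] at h1
    exact ⟨h1.1, h1.2.1⟩
  have h2 : g.u2 = 0 := by
    have h3 := (key 1).2
    rw [one_mul] at h3
    exact star_eq_zero.1 h3
  have h1 : star g.u1 = g.u1 := by
    have h3 := (key 1).1
    rwa [one_mul, star_one, mul_one] at h3
  obtain ⟨b, hb⟩ := exists_not_fix h
  have h3 := (key b).1
  rw [h1] at h3
  refine ⟨hr, ?_, h2⟩
  by_contra h4
  apply hb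
  have h5 : g.u1 * star b = g.u1 * b := by rw [← h3, mul_comm]
  exact mul_left_cancel₀ h4 h5

end Grp

end Cfsg.Agent.H801.PU
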